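import Cfsg.Prelude.Def_RootSubgroups
import Cfsg.Agent.Invol.BaerSuzuki
import Cfsg.Agent.Core.PCore

/-!
# Sets of root involutions: product partners and isolated members

If `a, c` are commuting members of a set of root involutions with `a * c` a member, `a` has an odd
neighbour, and `c` is outside the odd component of `a`, then `a * c` is an odd neighbour of every
odd neighbour of `a`.  Hence `c` is isolated.
-/

set_option autoImplicit false

open Cfsg

namespace Cfsg.Agent.RootInv

variable {G : Type*} [Group G] {D : Set G} {a b c : G}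

theorem ord (hD : IsRootInvolutionSet D) (ha : a ∈ D) : orderOf a = 2 := hD.orderOf_eq a ha

theorem inv_eq (hD : IsRootInvolutionSet D) (ha : a ∈ D) : a⁻¹ = a :=
  Invol.inv_eq_self (ord hD ha)

theorem sq_one (hD : IsRootInvolutionSet D) (ha : a ∈ D) : a * a = 1 :=
  Invol.mul_self_eq_one (ord hD ha)

theorem conj_mem (hD : IsRootInvolutionSet D) (ha : a ∈ D) (hb : b ∈ D) : a * b * a ∈ D := by
  have h := hD.conj_mem b hb a
  rwa [inv_eq hD ha] at h

theorem orderOf_swap (a b : G) : orderOf (a * b) = orderOf (b * a) := by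
  have h := Invol.orderOf_conj a (b * a)
  rwa [← mul_assoc, mul_inv_cancel_right] at h

theorem oddAdj_symm (h : OddAdj D a b) : OddAdj D b a :=
  ⟨h.2.1, h.1, h.2.2.1.symm, by rw [orderOf_swap]; exact h.2.2.2⟩

theorem reach_symm (h : Relation.ReflTransGen (OddAdj D) a b) :
    Relation.ReflTransGen (OddAdj D) b a := by
  induction h with
  | refl => exact Relation.ReflTransGen.refl
  | tail _ hlast ih => exact Relation.ReflTransGen.head (oddAdj_symm hlast) ih

theorem component_eq (h : Relation.ReflTransGen (OddAdj D) a b) :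
    elemComponentOf (OddAdj D) D a = elemComponentOf (OddAdj D) D b := by
  ext x
  exact ⟨fun hx => ⟨hx.1, (reach_symm h).trans hx.2⟩, fun hx => ⟨hx.1, h.trans hx.2⟩⟩

theorem exists_adj (h : Relation.ReflTransGen (OddAdj D) a b) (hne : b ≠ a) :
    ∃ y, OddAdj D a y := by
  rcases h.cases_head with h' | ⟨y, hy, -⟩
  · exact absurd h'.symm hne
  · exact ⟨y, hy⟩

/-- Two members whose product has order dividing 4 give commuting conjugates. -/
theorem commute_conj_of_pow_four (hD : IsRootInvolutionSet D) (hc : c ∈ D) (hy : b ∈ D)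
    (h4 : (c * b) ^ 4 = 1) : Commute c (b * c * b) := by
  have h : ((c * b) ^ 2)⁻¹ = (c * b) ^ 2 := inv_eq_of_mul_eq_one_right (by rw [← pow_add, h4])
  rw [← inv_pow, mul_inv_rev, inv_eq hD hc, inv_eq hD hy] at h
  show c * (b * c * b) = b * c * b * c
  rw [sq, sq] at h
  simp only [mul_assoc] at h ⊢
  exact h.symm

theorem pow_four_of_not_odd (hD : IsRootInvolutionSet D) (hc : c ∈ D) (hy : b ∈ D)
    (hodd : ¬ Odd (orderOf (c * b))) : (c * b) ^ 4 = 1 := by
  rcases hD.pair c hc b hy with h | h | ⟨h, -⟩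
  · have h2 : (c * b) ^ 2 = 1 := by
      rw [(show Commute c b from h).mul_pow, sq, sq, sq_one hD hc, sq_one hD hy, one_mul]
    rw [show (4 : ℕ) = 2 * 2 from rfl, pow_mul, h2, one_pow]
  · exact absurd h hodd
  · rw [← h, pow_orderOf_eq_one]

/-- The members `a * (a * a') ^ k`. -/
theorem reflection_mem (hD : IsRootInvolutionSet D) {a' : G} (hadj : OddAdj D a a')
    (k : ℤ) : a * (a * a') ^ k ∈ D := by
  obtain ⟨ha, ha', -, ⟨m, hm⟩⟩ := hadj
  obtain ⟨d, -, hd⟩ := Invol.exists_conj_eq (ord hD ha) (ord hD ha') (k * ((m : ℤ) + 1))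
  have heq : (a * a') ^ (2 * (k * ((m : ℤ) + 1))) = (a * a') ^ k := by
    rw [show 2 * (k * ((m : ℤ) + 1)) = k + k * (orderOf (a * a') : ℤ) by rw [hm]; push_cast; ring,
      zpow_add, mul_comm k, zpow_mul, zpow_natCast, pow_orderOf_eq_one, one_zpow, mul_one]
  rw [← heq, ← hd]
  exact hD.conj_mem a ha d

theorem reflection_reach (hD : IsRootInvolutionSet D) {a' : G} (hadj : OddAdj D a a')
    (k : ℤ) : Relation.ReflTransGen (OddAdj D) a (a * (a * a') ^ k) := by
  by_cases h : a = a * (a * a') ^ k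
  · rw [← h]
  · refine Relation.ReflTransGen.single ⟨hadj.1, reflection_mem hD hadj k, h, ?_⟩
    rw [← mul_assoc, sq_one hD hadj.1, one_mul]
    exact Odd.of_dvd_nat hadj.2.2.2 (orderOf_dvd_of_mem_zpowers (Subgroup.zpow_mem_zpowers _ k))

/-- If `c` has product of order dividing 4 with every reflection of `⟨a, a'⟩`, then `a * c` is an
odd neighbour of `a'`. -/
theorem oddAdj_mul_of_four (hD : IsRootInvolutionSet D) {a' : G} (ha : a ∈ D)
    (hc : c ∈ D) (hac : Commute a c) (hmem : a * c ∈ D) (hadj : OddAdj D a a')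
    (hfour : ∀ k : ℤ, (c * (a * (a * a') ^ k)) ^ 4 = 1) : OddAdj D a' (a * c) := by
  have hyD := reflection_mem hD hadj
  obtain ⟨-, ha', hne, ⟨m, hm⟩⟩ := hadj
  set r := a * a' with hr
  have hfix : a * c * a = c := by rw [hac.eq, mul_assoc, sq_one hD ha, mul_one]
  have hrk : ∀ k : ℤ, r ^ k = a * (a * r ^ k) := fun k => by
    rw [← mul_assoc, sq_one hD ha, one_mul]
  -- The orbit of `c` under `r` consists of commuting involutions.
  have horb0 : ∀ k : ℤ, Commute c (r ^ k * c * (r ^ k)⁻¹) := by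
    intro k
    have h1 := (Commute.conj_iff a).2 (commute_conj_of_pow_four hD hc (hyD k) (hfour k))
    rw [inv_eq hD ha, hfix] at h1
    have h2 : r ^ k * c * (r ^ k)⁻¹ = a * (a * r ^ k * c * (a * r ^ k)) * a := by
      conv_lhs => rw [hrk k, mul_inv_rev, inv_eq hD (hyD k), inv_eq hD ha]
      simp only [mul_assoc]
    rw [h2]
    exact h1
  set S : Set G := {x | ∃ k : ℤ, x = r ^ k * c * (r ^ k)⁻¹} with hS
  have hSc : ∀ x ∈ S, ∀ y ∈ S, Commute x y := by
    rintro x ⟨i, rfl⟩ y ⟨j, rfl⟩
    have h1 := (Commute.conj_iff (r ^ i)).2 (horb0 (j - i))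
    have h2 : r ^ i * (r ^ (j - i) * c * (r ^ (j - i))⁻¹) * (r ^ i)⁻¹ = r ^ j * c * (r ^ j)⁻¹ := by
      rw [show r ^ j = r ^ i * r ^ (j - i) by rw [← zpow_add]; congr 1; ring, mul_inv_rev]
      simp only [mul_assoc]
    rwa [h2] at h1
  set E := Subgroup.closure S with hE
  have hEc : ∀ x ∈ E, ∀ y ∈ E, Commute x y := by
    have h1 : E ≤ Subgroup.centralizer S := by
      rw [hE, Subgroup.closure_le]
      intro x hx
      rw [SetLike.mem_coe, Subgroup.mem_centralizer_iff]
      exact fun y hy => (hSc y hy x hx).eq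
    have h2 : E ≤ Subgroup.centralizer (E : Set G) := by
      rw [hE, Subgroup.closure_le]
      intro x hx
      rw [SetLike.mem_coe, Subgroup.mem_centralizer_iff]
      exact fun y hy => (Subgroup.mem_centralizer_iff.1 (h1 hy) x hx).symm
    exact fun x hx y hy => (Subgroup.mem_centralizer_iff.1 (h2 hy) x hx)
  have hE2 : ∀ e ∈ E, e * e = 1 := by
    intro e he
    induction he using Subgroup.closure_induction with
    | mem x hx =>
      obtain ⟨k, rfl⟩ := hx
      simp [mul_assoc, ← mul_assoc c c, sq_one hD hc]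
    | one => rw [one_mul]
    | mul x y hx hy ihx ihy =>
      rw [show x * y * (x * y) = x * x * (y * y) from
        (hEc y hy x hx).mul_mul_mul_comm x y, ihx, ihy, one_mul]
    | inv x _ ihx => rw [← mul_inv_rev, ihx, inv_one]
  have hEr : ∀ e ∈ E, r * e * r⁻¹ ∈ E := by
    intro e he
    have hle : E ≤ E.comap (MulAut.conj r).toMonoidHom := by
      conv_lhs => rw [hE]
      rw [Subgroup.closure_le]
      rintro x ⟨k, rfl⟩
      refine Subgroup.subset_closure ⟨1 + k, ?_⟩
      show r * (r ^ k * c * (r ^ k)⁻¹) * r⁻¹ = _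
      rw [zpow_add, zpow_one]
      simp only [mul_inv_rev, mul_assoc]
    exact hle he
  have hcE : c ∈ E := Subgroup.subset_closure ⟨0, by simp⟩
  set x := a' * (a * c) with hx
  have hxr : x = r⁻¹ * c := by rw [hx, hr, mul_inv_rev, inv_eq hD ha, inv_eq hD ha', mul_assoc]
  have hpow : ∀ n : ℕ, (r ^ n * x ^ n) ∈ E := by
    intro n
    induction n with
    | zero => simp
    | succ n ih =>
      have h1 : r ^ (n + 1) * x ^ (n + 1) = r * (r ^ n * x ^ n) * r⁻¹ * c := by
        rw [pow_succ', pow_succ x, hxr]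
        simp only [mul_assoc]
      rw [h1]
      exact E.mul_mem (hEr _ ih) hcE
  have h4no : x ^ 4 ≠ 1 := by
    intro h4
    have h1 := hpow 4
    rw [h4, mul_one] at h1
    have h8 : r ^ 8 = 1 := by
      have := hE2 _ h1
      rwa [← pow_add] at this
    have h2 : orderOf r ∣ 2 ^ 3 := orderOf_dvd_of_pow_eq_one (by simpa using h8)
    have h3 : orderOf r = 1 :=
      ((Nat.coprime_two_right.2 ⟨m, hm⟩).pow_right 3).eq_one_of_dvd h2
    rw [orderOf_eq_one_iff, hr, mul_eq_one_iff_eq_inv, inv_eq hD ha'] at h3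
    exact hne h3
  have hne' : a' ≠ a * c := by
    intro h
    apply h4no
    rw [hx, ← h, sq_one hD ha', one_pow]
  refine ⟨ha', hmem, hne', ?_⟩
  by_contra ho
  exact h4no (pow_four_of_not_odd hD ha' hmem ho)

/-- The main lemma on product partners. -/
theorem oddAdj_mul_of_partner (hD : IsRootInvolutionSet D) {a' : G} (ha : a ∈ D)
    (hc : c ∈ D) (hac : Commute a c) (hmem : a * c ∈ D) (hadj : OddAdj D a a')
    (hout : ¬ Relation.ReflTransGen (OddAdj D) a c) : OddAdj D a' (a * c) := by
  refine oddAdj_mul_of_four hD ha hc hac hmem hadj fun k =>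
    pow_four_of_not_odd hD hc (reflection_mem hD hadj k) fun ho => hout ?_
  by_cases hcy : a * (a * a') ^ k = c
  · exact hcy ▸ reflection_reach hD hadj k
  · exact (reflection_reach hD hadj k).tail
      (oddAdj_symm ⟨hc, reflection_mem hD hadj k, Ne.symm hcy, ho⟩)

/-- A product partner of a non-isolated member lies in its component or is isolated. -/
theorem partner_cases (hD : IsRootInvolutionSet D) (ha : a ∈ D) (hc : c ∈ D) (hac : Commute a c)
    (hmem : a * c ∈ D) (hadj : ∃ a', OddAdj D a a') :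
    Relation.ReflTransGen (OddAdj D) a c ∨ IsIsolatedElem (OddAdj D) D c := by
  by_cases hr : Relation.ReflTransGen (OddAdj D) a c
  · exact Or.inl hr
  right
  obtain ⟨a', ha'⟩ := hadj
  refine ⟨hc, fun e => ?_⟩
  have hno : ¬ OddAdj D c e := by
    intro he
    apply hr
    have h1 : Relation.ReflTransGen (OddAdj D) a (a * c) :=
      (Relation.ReflTransGen.single ha').tail (oddAdj_mul_of_partner hD ha hc hac hmem ha' hr)
    have hmem' : c * a ∈ D := by rwa [← hac.eq]
    have h2 : Relation.ReflTransGen (OddAdj D) c (c * a) :=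
      (Relation.ReflTransGen.single he).tail
        (oddAdj_mul_of_partner hD hc ha hac.symm hmem' he fun h => hr (reach_symm h))
    rw [← hac.eq] at h2
    exact h1.trans (reach_symm h2)
  exact ⟨hno, fun h => hno (oddAdj_symm h)⟩

theorem isolated_conj (hD : IsRootInvolutionSet D) {w : G}
    (hw : IsIsolatedElem (OddAdj D) D w) (g : G) :
    IsIsolatedElem (OddAdj D) D (g * w * g⁻¹) := by
  refine ⟨hD.conj_mem w hw.1 g, fun b => ?_⟩
  have hno : ¬ OddAdj D (g * w * g⁻¹) b := by
    rintro ⟨-, hb, hne, ho⟩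
    have hb' : g⁻¹ * b * g ∈ D := by simpa using hD.conj_mem b hb g⁻¹
    refine (hw.2 (g⁻¹ * b * g)).1 ⟨hw.1, hb', fun h => hne ?_, ?_⟩
    · rw [h]; simp [mul_assoc]
    · rw [← Invol.orderOf_conj g (w * (g⁻¹ * b * g))]
      rw [show g * (w * (g⁻¹ * b * g)) * g⁻¹ = g * w * g⁻¹ * b by simp [mul_assoc]]
      exact ho
  exact ⟨hno, fun h => hno (oddAdj_symm h)⟩

theorem isolated_mem_pCore [Finite G] (hD : IsRootInvolutionSet D) {w : G}
    (hw : IsIsolatedElem (OddAdj D) D w) : w ∈ pCore 2 G := by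
  have : Fact (Nat.Prime 2) := ⟨Nat.prime_two⟩
  have hwo := ord hD hw.1
  have hX : IsPGroup 2 (Subgroup.zpowers w) :=
    IsPGroup.of_card (n := 1) (by rw [Nat.card_zpowers, hwo, pow_one])
  obtain ⟨N, hN, hNp, hle⟩ := Invol.baerSuzuki (Subgroup.zpowers w) hX fun g => by
    have hvD := hD.conj_mem w hw.1 g
    have hv : orderOf (g * w * g⁻¹) = 2 := ord hD hvD
    have h4 : (w * (g * w * g⁻¹)) ^ 4 = 1 := by
      by_cases he : w = g * w * g⁻¹
      · rw [← he, sq_one hD hw.1, one_pow]
      · exact pow_four_of_not_odd hD hw.1 hvD fun ho => (hw.2 _).1 ⟨hw.1, hvD, he, ho⟩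
    refine IsPGroup.to_le ?_ (K := Subgroup.closure ({w, g * w * g⁻¹} : Set G)) ?_
    · intro u
      refine ⟨3, ?_⟩
      apply Subtype.ext
      rw [SubmonoidClass.coe_pow, OneMemClass.coe_one]
      obtain ⟨j, hj | hj⟩ := Invol.closure_mem hwo hv u.2
      · have h8 : (w * (g * w * g⁻¹)) ^ (2 ^ 3) = 1 := by
          rw [show (2 : ℕ) ^ 3 = 4 * 2 from rfl, pow_mul, h4, one_pow]
        rw [hj, ← zpow_natCast, ← zpow_mul, mul_comm j, zpow_mul, zpow_natCast, h8, one_zpow]
      · rw [hj, pow_succ', pow_mul, pow_two, Invol.sq_self_mul_zpow hwo hv, one_pow]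
    · rw [MonoidHom.map_zpowers, sup_le_iff, Subgroup.zpowers_le, Subgroup.zpowers_le]
      exact ⟨Invol.self_mem_closure, Invol.other_mem_closure⟩
  have := hN
  exact Core.le_pCore hNp (hle (Subgroup.mem_zpowers w))

theorem isolated_of_mem_normal_pGroup (hD : IsRootInvolutionSet D) {N : Subgroup G} [N.Normal]
    (hN : IsPGroup 2 N) (ha : a ∈ D) (haN : a ∈ N) : IsIsolatedElem (OddAdj D) D a := by
  refine ⟨ha, fun b => ?_⟩
  have hno : ¬ OddAdj D a b := by
    rintro ⟨-, hb, hne, ho⟩
    have h2 : (a * b) ^ 2 ∈ N := by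
      have h := N.mul_mem haN (Subgroup.Normal.conj_mem ‹N.Normal› a haN b)
      rw [inv_eq hD hb] at h
      rw [sq]
      simpa [mul_assoc] using h
    obtain ⟨k, hk⟩ := hN ⟨_, h2⟩
    have hk' : ((a * b) ^ 2) ^ (2 ^ k) = 1 := congrArg Subtype.val hk
    rw [← pow_mul, ← pow_succ'] at hk'
    have h1 : orderOf (a * b) = 1 :=
      ((Nat.coprime_two_right.2 ho).pow_right _).eq_one_of_dvd (orderOf_dvd_of_pow_eq_one hk')
    rw [orderOf_eq_one_iff, mul_eq_one_iff_eq_inv, inv_eq hD hb] at h1
    exact hne h1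
  exact ⟨hno, fun h => hno (oddAdj_symm h)⟩

/-- The subgroup generated by the isolated members. -/
theorem isolated_closure [Finite G] (hD : IsRootInvolutionSet D) :
    (Subgroup.closure {w | IsIsolatedElem (OddAdj D) D w}).Normal ∧
    IsPGroup 2 ↥(Subgroup.closure {w | IsIsolatedElem (OddAdj D) D w}) ∧
    (Subgroup.closure {w | IsIsolatedElem (OddAdj D) D w} : Set G) ∩ D =
      {w | IsIsolatedElem (OddAdj D) D w} := by
  set W := {w | IsIsolatedElem (OddAdj D) D w} with hW
  have : Fact (Nat.Prime 2) := ⟨Nat.prime_two⟩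
  have hle : Subgroup.closure W ≤ pCore 2 G :=
    (Subgroup.closure_le _).2 fun w hw => isolated_mem_pCore hD hw
  have hnorm : (Subgroup.closure W).Normal := by
    refine ⟨fun x hx g => ?_⟩
    have : Subgroup.closure W ≤ (Subgroup.closure W).comap (MulAut.conj g).toMonoidHom :=
      (Subgroup.closure_le _).2 fun w hw => Subgroup.subset_closure (isolated_conj hD hw g)
    exact this hx
  have hp : IsPGroup 2 ↥(Subgroup.closure W) := (Core.pCore_isPGroup).to_le hle
  refine ⟨hnorm, hp, Set.Subset.antisymm ?_ fun w hw => ⟨Subgroup.subset_closure hw, hw.1⟩⟩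
  rintro d ⟨hd, hdD⟩
  have := hnorm
  exact isolated_of_mem_normal_pGroup hD hp hdD hd

/-- Members of different non-trivial components have commutator generated by isolated members. -/
theorem commutator_isolated (hD : IsRootInvolutionSet D) (ha : a ∈ D) (hb : b ∈ D)
    (haa : ∃ a', OddAdj D a a') (hbb : ∃ b', OddAdj D b b')
    (hr : ¬ Relation.ReflTransGen (OddAdj D) a b) :
    a * b * a⁻¹ * b⁻¹ ∈ Subgroup.closure {w | IsIsolatedElem (OddAdj D) D w} := by
  have hne : a ≠ b := fun h => hr (h ▸ Relation.ReflTransGen.refl)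
  rw [inv_eq hD ha, inv_eq hD hb]
  have hsq : a * b * a * b = (a * b) ^ 2 := by rw [sq]; simp only [mul_assoc]
  rw [hsq]
  rcases hD.pair a ha b hb with h | h | ⟨h4, hfD⟩
  · rw [(show Commute a b from h).mul_pow, sq, sq, sq_one hD ha, sq_one hD hb, one_mul]
    exact one_mem _
  · exact absurd (Relation.ReflTransGen.single ⟨ha, hb, hne, h⟩) hr
  set f := (a * b) ^ 2 with hf
  have hpow : (a * b) ^ 4 = 1 := by rw [← h4, pow_orderOf_eq_one]
  have hfi : f⁻¹ = f := inv_eq_of_mul_eq_one_right (by rw [hf, ← pow_add, hpow])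
  have hfba : f = (b * a) ^ 2 := by
    conv_lhs => rw [← hfi, hf, ← inv_pow, mul_inv_rev, inv_eq hD ha, inv_eq hD hb]
  have hfa : Commute a f := by
    show a * f = f * a
    conv_rhs => rw [hfba]
    rw [hf, sq, sq]
    simp only [mul_assoc]
    rw [← mul_assoc a a, sq_one hD ha, one_mul, mul_one]
  have hfb : Commute b f := by
    show b * f = f * b
    conv_lhs => rw [hf]
    rw [hfba, sq, sq]
    simp only [mul_assoc]
  have hafD : a * f ∈ D := by
    have : a * f = b * a * b := by
      rw [hf, sq]; simp only [mul_assoc]; rw [← mul_assoc a a, sq_one hD ha, one_mul]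
    rw [this]; exact conj_mem hD hb ha
  have hbfD : b * f ∈ D := by
    have : b * f = a * b * a := by
      rw [hfba, sq]; simp only [mul_assoc]; rw [← mul_assoc b b, sq_one hD hb, one_mul]
    rw [this]; exact conj_mem hD ha hb
  rcases partner_cases hD ha hfD hfa hafD haa with h1 | h1
  · rcases partner_cases hD hb hfD hfb hbfD hbb with h2 | h2
    · exact absurd (h1.trans (reach_symm h2)) hr
    · exact Subgroup.subset_closure h2
  · exact Subgroup.subset_closure h1

end Cfsg.Agent.RootInv
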