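import Cfsg.Agent.RootInv.Line

/-!
# Members with the same odd neighbours

In a conjugation-transitive set of root involutions two members with the same odd neighbours
commute and commute with the same members.
-/

set_option autoImplicit false

open Cfsg

namespace Cfsg.Agent.RootInv

variable {G : Type*} [Group G] {D : Set G} {a b c e g x y : G}

/-- Conjugation is transitive on D. -/
def Transitive (D : Set G) : Prop := ∀ a ∈ D, ∀ b ∈ D, ∃ g : G, b = g * a * g⁻¹

theorem transitive_of_connected (hD : IsRootInvolutionSet D)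
    (hc : IsConnectedSet (OddAdj D) D) : Transitive D := by
  intro a ha b hb
  induction hc a ha b hb with
  | refl => exact ⟨1, by group⟩
  | tail _ h ih =>
    obtain ⟨g, rfl⟩ := ih h.1
    obtain ⟨d, -, rfl⟩ := Invol.exists_conj_of_odd (ord hD h.1) (ord hD h.2.1) h.2.2.2
    exact ⟨d * g, by group⟩

theorem mem_oddPartners : e ∈ oddPartners D a ↔ e ∈ D ∧ e ≠ a ∧ Odd (orderOf (a * e)) := Iff.rfl

theorem oddPartners_conj (hD : IsRootInvolutionSet D) (g : G) :
    g * e * g⁻¹ ∈ oddPartners D (g * a * g⁻¹) ↔ e ∈ oddPartners D a := by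
  have ho : orderOf (g * a * g⁻¹ * (g * e * g⁻¹)) = orderOf (a * e) := by
    rw [show g * a * g⁻¹ * (g * e * g⁻¹) = g * (a * e) * g⁻¹ by group, Invol.orderOf_conj]
  rw [mem_oddPartners, mem_oddPartners, ho]
  refine and_congr ⟨fun h => ?_, fun h => hD.conj_mem e h g⟩
    (and_congr_left fun _ => not_congr ⟨fun h => (MulAut.conj g).injective h, fun h => by rw [h]⟩)
  simpa [mul_assoc] using hD.conj_mem _ h g⁻¹

theorem oddPartners_conj_eq (hD : IsRootInvolutionSet D) (g : G) :
    oddPartners D (g * a * g⁻¹) = (fun e => g * e * g⁻¹) '' oddPartners D a := by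
  ext e
  constructor
  · intro h
    refine ⟨g⁻¹ * e * g, ?_, by group⟩
    rw [← oddPartners_conj hD g]
    rwa [show g * (g⁻¹ * e * g) * g⁻¹ = e by group]
  · rintro ⟨e', h, rfl⟩
    exact (oddPartners_conj hD g).2 h

theorem same_conj (hD : IsRootInvolutionSet D) (h : oddPartners D a = oddPartners D b) (g : G) :
    oddPartners D (g * a * g⁻¹) = oddPartners D (g * b * g⁻¹) := by
  rw [oddPartners_conj_eq hD, oddPartners_conj_eq hD, h]

/-- An element commuting with a preserves the members with the neighbours of a. -/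
theorem same_fix (hD : IsRootInvolutionSet D) (hg : Commute g a)
    (h : oddPartners D a = oddPartners D b) :
    oddPartners D (g * b * g⁻¹) = oddPartners D a := by
  rw [← same_conj hD h g, hg.eq, mul_inv_cancel_right]

theorem same_of_subset [Finite G] (hD : IsRootInvolutionSet D) (htr : Transitive D) (ha : a ∈ D)
    (hb : b ∈ D) (h : oddPartners D a ⊆ oddPartners D b) :
    oddPartners D a = oddPartners D b := by
  refine Set.eq_of_subset_of_ncard_le h (le_of_eq ?_) (Set.toFinite _)
  obtain ⟨g, rfl⟩ := htr a ha b hb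
  rw [oddPartners_conj_eq hD]
  exact Set.ncard_image_of_injective _ fun u v huv => conj_injective huv

theorem exists_sep [Finite G] (hD : IsRootInvolutionSet D) (htr : Transitive D) (ha : a ∈ D)
    (hb : b ∈ D) (h : oddPartners D a ≠ oddPartners D b) :
    ∃ y ∈ oddPartners D a, y ∉ oddPartners D b :=
  Set.not_subset.mp fun hs => h (same_of_subset hD htr ha hb hs)

/-- b is a value with a as soon as some odd neighbour of a is none of b. -/
theorem swap_of_sep [Finite G] (hD : IsRootInvolutionSet D) (ha : a ∈ D) (hb : b ∈ D)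
    (hab : Commute a b) (hmem : a * b ∈ D) (hy : y ∈ oddPartners D a)
    (hy' : y ∉ oddPartners D b) :
    ∃ g ∈ D, Commute y g ∧ orderOf (a * g) = 4 ∧ (a * g) ^ 2 = b := by
  obtain ⟨hyD, hne, hodd⟩ := hy
  refine exists_swap hD ha hyD hne (by rwa [orderOf_swap]) hb hab hmem fun ho => ?_
  by_cases hyb : y = b
  · subst hyb
    exact not_commute_of_odd hD ha hyD hne.symm hodd hab
  · exact hy' ⟨hyD, hyb, by rwa [orderOf_swap]⟩

/-- A line meets a block in at most one point or lies in it. -/
theorem line_same [Finite G] (hD : IsRootInvolutionSet D) (htr : Transitive D) (ha : a ∈ D)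
    (hb : b ∈ D) (hab : Commute a b) (hmem : a * b ∈ D)
    (h : oddPartners D a = oddPartners D (a * b)) : oddPartners D b = oddPartners D a := by
  by_contra hne
  obtain ⟨y, hy, hy'⟩ := exists_sep hD htr hb ha hne
  obtain ⟨k, hk, -, h4, hval⟩ := swap_of_sep hD hb ha hab.symm (by rwa [← hab.eq]) hy hy'
  obtain ⟨-, -, hka, -, hkbk⟩ := four_facts hD hb hk h4
  rw [hval] at hka hkbk
  refine hne ?_
  have h2 := same_fix hD hka h
  have e : k * (a * b) * k⁻¹ = b := by
    rw [inv_eq hD hk, ← mul_assoc k, hka.eq, mul_assoc a, mul_assoc a, hkbk,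
      ← mul_assoc, hab.eq, mul_assoc, sq_one hD ha, mul_one]
  rwa [e] at h2

theorem not_odd_same (hne : a ≠ b) (hb : b ∈ D) (h : oddPartners D a = oddPartners D b) :
    ¬ Odd (orderOf (a * b)) := fun ho =>
  (show b ∈ oddPartners D b by rw [← h]; exact ⟨hb, hne.symm, ho⟩).2.1 rfl

theorem square_same [Finite G] (hD : IsRootInvolutionSet D) (htr : Transitive D) (ha : a ∈ D)
    (hb : b ∈ D) (h4 : orderOf (a * b) = 4) (h : oddPartners D a = oddPartners D b) :
    oddPartners D ((a * b) ^ 2) = oddPartners D b := by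
  obtain ⟨hc, -, hbc, haba, -⟩ := four_facts hD ha hb h4
  have hm : b * (a * b) ^ 2 ∈ D := haba ▸ conj_mem hD ha hb
  refine line_same hD htr hb hc hbc hm ?_
  rw [← h, ← haba]
  have := same_fix hD (Commute.refl a) h
  rw [inv_eq hD ha] at this
  exact this.symm

/-- Two members with the same odd neighbours have product of order at most two. -/
theorem no_four_same [Finite G] (hD : IsRootInvolutionSet D) (htr : Transitive D) (hb : b ∈ D)
    (hx : x ∈ D) (h4 : orderOf (b * x) = 4) : oddPartners D b ≠ oddPartners D x := by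
  intro hbx
  set Γ : Set G := {d | d ∈ D ∧ oddPartners D d = oddPartners D x} with hΓ
  set F := Subgroup.closure Γ with hF
  have hΓF : Γ ⊆ F := Subgroup.subset_closure
  let K : Subgroup G :=
    { carrier := {g | oddPartners D (g * x * g⁻¹) = oddPartners D x}
      one_mem' := by show oddPartners D _ = _; rw [one_mul, inv_one, mul_one]
      mul_mem' := fun {g h} hg hh => by
        show oddPartners D _ = _
        rw [show g * h * x * (g * h)⁻¹ = g * (h * x * h⁻¹) * g⁻¹ by group, same_conj hD hh g]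
        exact hg
      inv_mem' := fun {g} hg => by
        show oddPartners D _ = _
        have := same_conj hD hg g⁻¹
        rw [show g⁻¹ * (g * x * g⁻¹) * g⁻¹⁻¹ = x by group] at this
        exact this.symm }
  have hstab : ∀ g ∈ F, ∀ d ∈ Γ, g * d * g⁻¹ ∈ Γ := by
    intro g hg d hd
    have hgK : g ∈ K := (Subgroup.closure_le K).2 (fun e he =>
      (same_fix hD (Commute.refl e) he.2).trans he.2) hg
    exact ⟨hD.conj_mem d hd.1 g, (same_conj hD hd.2 g).trans hgK⟩
  have hsq : ∀ d ∈ Γ, ∀ e ∈ Γ, orderOf (d * e) = 4 → (d * e) ^ 2 ∈ Γ := fun d hd e he h =>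
    ⟨(four_facts hD hd.1 he.1 h).1,
      (square_same hD htr hd.1 he.1 h (hd.2.trans he.2.symm)).trans he.2⟩
  -- F is perfect
  have hperf : F ≤ ⁅F, F⁆ := by
    refine (Subgroup.closure_le _).2 fun d hd => ?_
    obtain ⟨hcD, hcA⟩ := hsq b ⟨hb, hbx⟩ x ⟨hx, rfl⟩ h4
    obtain ⟨g, rfl⟩ := htr _ hcD d hd.1
    have hmove : ∀ e ∈ Γ, g * e * g⁻¹ ∈ F := fun e he =>
      hΓF ⟨hD.conj_mem e he.1 g, (same_conj hD (he.2.trans hcA.symm) g).trans hd.2⟩
    have h := Subgroup.commutator_mem_commutator (hmove b ⟨hb, hbx⟩) (hmove x ⟨hx, rfl⟩)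
    rw [SetLike.mem_coe]
    convert h using 1
    rw [commutatorElement_def, inv_eq hD (hD.conj_mem b hb g), inv_eq hD (hD.conj_mem x hx g), sq]
    group
  -- F is a 2-group
  let D' : Set ↥F := Subtype.val ⁻¹' Γ
  have hD' : IsRootInvolutionSet D' := by
    refine ⟨fun d hd => (Subgroup.orderOf_coe d).symm.trans (ord hD hd.1),
      Subgroup.closure_closure_coe_preimage, fun d hd g => hstab g g.2 d hd, fun d hd e he => ?_⟩
    rcases hD.pair d hd.1 e he.1 with h | h | ⟨h, -⟩
    · exact .inl (Subtype.ext h)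
    · refine .inr (.inl ?_)
      rw [← Subgroup.orderOf_coe]
      exact h
    · exact .inr (.inr ⟨(Subgroup.orderOf_coe _).symm.trans h, hsq d hd e he h⟩)
  have hiso : ∀ d ∈ D', IsIsolatedElem (OddAdj D') D' d := by
    refine fun d hd => ⟨hd, fun e => ?_⟩
    have hno : ¬ OddAdj D' d e := by
      rintro ⟨-, he, hne, ho⟩
      refine not_odd_same (fun h => hne (Subtype.ext h)) he.1 (hd.2.trans he.2.symm) ?_
      rw [← Subgroup.orderOf_coe] at ho
      exact ho
    exact ⟨hno, fun h => hno (oddAdj_symm h)⟩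
  have hp : IsPGroup 2 ↥F := by
    have h := (isolated_closure hD').2.1
    rw [show {w | IsIsolatedElem (OddAdj D') D' w} = D' from
      Set.ext fun w => ⟨fun hw => hw.1, hiso w⟩,
      show Subgroup.closure D' = ⊤ from Subgroup.closure_closure_coe_preimage] at h
    exact h.of_equiv Subgroup.topEquiv
  have : Fact (Nat.Prime 2) := ⟨Nat.prime_two⟩
  have : Group.IsNilpotent ↥F := hp.isNilpotent
  have : Nontrivial ↥F := ⟨⟨⟨x, hΓF ⟨hx, rfl⟩⟩, 1, fun h =>
    Invol.ne_one (ord hD hx) (congrArg Subtype.val h)⟩⟩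
  refine (Group.IsSolvable.commutator_lt_top_of_nontrivial (G := ↥F)).ne ?_
  refine Subgroup.map_injective F.subtype_injective ?_
  rw [map_commutator_eq, Subgroup.range_subtype, ← MonoidHom.range_eq_map, Subgroup.range_subtype]
  exact le_antisymm (Subgroup.commutator_le_self F) hperf

theorem commute_of_same [Finite G] (hD : IsRootInvolutionSet D) (htr : Transitive D) (ha : a ∈ D)
    (he : e ∈ D) (h : oddPartners D a = oddPartners D e) : Commute a e := by
  rcases hD.pair a ha e he with h' | h' | ⟨h', -⟩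
  · exact h'
  · by_cases hne : a = e
    · exact hne ▸ Commute.refl a
    · exact absurd h' (not_odd_same hne he h)
  · exact absurd h (no_four_same hD htr ha he h')

/-- A member commuting with a commutes with every member having the same odd neighbours. -/
theorem commute_transfer [Finite G] (hD : IsRootInvolutionSet D) (htr : Transitive D) (ha : a ∈ D)
    (he : e ∈ D) (h : oddPartners D a = oddPartners D e) (hx : x ∈ D) (hxa : Commute x a) :
    Commute x e := by
  rcases hD.pair x hx e he with h' | h' | ⟨h4, -⟩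
  · exact h'
  · by_cases hne : x = e
    · exact hne ▸ Commute.refl x
    · exfalso
      have hm : x ∈ oddPartners D a := h ▸ ⟨hx, hne, by rwa [orderOf_swap]⟩
      exact not_commute_of_odd hD ha hx hm.2.1.symm hm.2.2 hxa.symm
  exfalso
  obtain ⟨hc, hxc, hec, hxex, -⟩ := four_facts hD hx he h4
  set c := (x * e) ^ 2 with hcdef
  have hecA : oddPartners D (e * c) = oddPartners D a := by
    rw [← hxex]
    have := same_fix hD hxa h
    rwa [inv_eq hD hx] at this
  have hecD : e * c ∈ D := hxex ▸ conj_mem hD hx he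
  have hcA : oddPartners D c = oddPartners D e :=
    line_same hD htr he hc hec hecD (h.symm.trans hecA.symm)
  by_cases hxA : oddPartners D x = oddPartners D c
  · exact no_four_same hD htr hx he h4 (hxA.trans hcA)
  obtain ⟨y, hy, hy'⟩ := exists_sep hD htr hc hx (Ne.symm hxA)
  have hxcD : c * x ∈ D := by
    have : x * c ∈ D := by
      rw [hcdef, sq]; simp only [← mul_assoc]
      rw [sq_one hD hx, one_mul]
      exact conj_mem hD he hx
    rwa [← hxc.eq]
  obtain ⟨k, hk, -, hk4, hval⟩ := swap_of_sep hD hc hx hxc.symm hxcD hy hy'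
  obtain ⟨-, -, hkx, -, hkck⟩ := four_facts hD hc hk hk4
  rw [hval] at hkx hkck
  have hek : (k * e) ^ 2 * c * ((k * e) ^ 2)⁻¹ = x := by
    have hexe : e * x * e = x * c := by
      rw [hcdef, sq]; simp only [← mul_assoc]; rw [sq_one hD hx, one_mul]
    have hece : e * c * e = c := by rw [hec.eq, mul_assoc, sq_one hD he, mul_one]
    have hxcx : c * (x * c) = x := by rw [← mul_assoc, ← hxc.eq, mul_assoc, sq_one hD hc, mul_one]
    have hkxk : k * x * k = x := by rw [hkx.eq, mul_assoc, sq_one hD hk, mul_one]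
    rw [← inv_pow, mul_inv_rev, inv_eq hD hk, inv_eq hD he, sq, sq]
    calc k * e * (k * e) * c * (e * k * (e * k))
        = k * (e * (k * (e * c * e) * k) * e) * k := by simp only [mul_assoc]
      _ = k * (e * (c * x) * e) * k := by rw [hece, hkck]
      _ = k * ((e * c * e) * (e * x * e)) * k := by
          simp only [mul_assoc]
          rw [← mul_assoc e e, sq_one hD he, one_mul]
      _ = x := by rw [hece, hexe, hxcx, hkxk]
  have hfe : Commute ((k * e) ^ 2) e := by
    by_cases hke : orderOf (k * e) = 4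
    · exact (four_facts hD hk he hke).2.2.1.symm
    · rcases hD.pair k hk e he with h' | h' | h'
      · exact ((show Commute k e from h').mul_left (Commute.refl e)).pow_left 2
      · by_cases hne : k = e
        · rw [hne, sq_one hD he, one_pow]; exact Commute.one_left e
        · have hm : k ∈ oddPartners D c := hcA.symm ▸ ⟨hk, hne, by rwa [orderOf_swap]⟩
          exact absurd hm.2.2 (not_odd_of_four hk4)
      · exact absurd h'.1 hke
  have h2 := same_fix hD hfe hcA.symm
  rw [hek] at h2
  exact hxA (h2.trans hcA.symm)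

/-- The same commuting members force the same odd neighbours. -/
theorem odd_subset_of_commuting (hD : IsRootInvolutionSet D) (ha : a ∈ D) (he : e ∈ D)
    (h : commutingMembers D a = commutingMembers D e) : oddPartners D a ⊆ oddPartners D e := by
  rintro x ⟨hx, hne, hodd⟩
  have hxe : ¬ Commute x e := fun hc => by
    have hm : x ∈ commutingMembers D a := h ▸ ⟨hx, hc.eq⟩
    exact not_commute_of_odd hD ha hx hne.symm hodd (show Commute x a from hm.2).symm
  refine ⟨hx, fun hh => hxe (hh ▸ Commute.refl x), ?_⟩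
  rcases hD.pair e he x hx with h' | h' | ⟨h4, -⟩
  · exact absurd (show Commute x e from Eq.symm h') hxe
  · exact h'
  exfalso
  obtain ⟨hf, hef, hxf, -, hxex⟩ := four_facts hD he hx h4
  set f := (e * x) ^ 2 with hfdef
  have hfa : f ∈ commutingMembers D a := h ▸ ⟨hf, hef.symm.eq⟩
  have hxfD : x * f ∈ D := by
    rw [hxf.eq, hfdef, sq]; simp only [mul_assoc]
    rw [sq_one hD hx, mul_one, ← mul_assoc]
    exact conj_mem hD he hx
  exact not_commute_partner hD hx ha hne (by rwa [orderOf_swap]) hf hxf hxfD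
    (show Commute f a from hfa.2).symm

theorem union_eq (hD : IsRootInvolutionSet D) (hd : a ∈ D) :
    commutingMembers D a ∪ fourPartners D a = D \ oddPartners D a := by
  ext x
  constructor
  · rintro (⟨hx, hc⟩ | ⟨hx, h4⟩)
    · exact ⟨hx, fun h => not_commute_of_odd hD hd hx h.2.1.symm h.2.2 (Eq.symm hc)⟩
    · exact ⟨hx, fun h => not_odd_of_four h4 h.2.2⟩
  · rintro ⟨hx, hno⟩
    rcases hD.pair a hd x hx with h | h | ⟨h, -⟩
    · exact .inl ⟨hx, h.symm⟩
    · by_cases hne : x = a
      · exact .inl ⟨hx, by rw [hne]⟩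
      · exact absurd ⟨hx, hne, h⟩ hno
    · exact .inr ⟨hx, h⟩

theorem sameCommuting_iff [Finite G] (hD : IsRootInvolutionSet D) (htr : Transitive D) (ha : a ∈ D)
    (he : e ∈ D) :
    commutingMembers D a = commutingMembers D e ↔ oddPartners D a = oddPartners D e := by
  refine ⟨fun h => (odd_subset_of_commuting hD ha he h).antisymm
    (odd_subset_of_commuting hD he ha h.symm), fun h => ?_⟩
  ext x
  exact ⟨fun hx => ⟨hx.1, (commute_transfer hD htr ha he h hx.1 hx.2).eq⟩,
    fun hx => ⟨hx.1, (commute_transfer hD htr he ha h.symm hx.1 hx.2).eq⟩⟩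

theorem sameClass_eq [Finite G] (hD : IsRootInvolutionSet D) (htr : Transitive D) (ha : a ∈ D) :
    sameCommutingClass D a = {e | e ∈ D ∧ oddPartners D a = oddPartners D e} :=
  Set.ext fun _ => and_congr_right fun he => sameCommuting_iff hD htr ha he

theorem class_union_eq [Finite G] (hD : IsRootInvolutionSet D) (htr : Transitive D) (ha : a ∈ D) :
    sameCommutingClass D a = {e | e ∈ D ∧ commutingMembers D a ∪ fourPartners D a =
      commutingMembers D e ∪ fourPartners D e} := by
  rw [sameClass_eq hD htr ha]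
  ext e
  refine and_congr_right fun he => ?_
  rw [union_eq hD ha, union_eq hD he]
  refine ⟨fun h => h ▸ rfl, fun h => ?_⟩
  have hsub : ∀ d, oddPartners D d ⊆ D := fun d x hx => hx.1
  rw [← Set.sdiff_sdiff_cancel_left (hsub a), h, Set.sdiff_sdiff_cancel_left (hsub e)]

/-- The triangle: a value b of a is swapped with a member by an element of order three against a. -/
theorem exists_order_three [Finite G] (hD : IsRootInvolutionSet D) (htr : Transitive D)
    (ha : a ∈ D) (hb : b ∈ productPartners D a) (hbE : b ∉ sameCommutingClass D a) :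
    ∃ x ∈ fourPartners D b, orderOf (a * x) = 3 := by
  obtain ⟨⟨hbD, hba, -⟩, hmem⟩ := hb
  have hab : Commute a b := Eq.symm hba
  have hmem' : a * b ∈ D := by rwa [hab.eq]
  have hne : oddPartners D a ≠ oddPartners D b := fun h =>
    hbE ⟨hbD, (sameCommuting_iff hD htr ha hbD).2 h⟩
  obtain ⟨y, hy, hy'⟩ := exists_sep hD htr ha hbD hne
  obtain ⟨g, hg, -, hg4, hgval⟩ := swap_of_sep hD ha hbD hab hmem' hy hy'
  obtain ⟨-, -, hgb, haga, -⟩ := four_facts hD ha hg hg4
  rw [hgval] at hgb haga
  have hbgD : b * g ∈ D := by rw [← hgb.eq, ← haga]; exact conj_mem hD ha hg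
  have hne' : oddPartners D b ≠ oddPartners D g := fun h =>
    not_commute_of_four hD ha hg hg4 (commute_transfer hD htr hbD hg h ha hab)
  obtain ⟨y₂, hy₂, hy₂'⟩ := exists_sep hD htr hbD hg hne'
  obtain ⟨x, hx, -, hx4, hxval⟩ := swap_of_sep hD hbD hg hgb.symm hbgD hy₂ hy₂'
  obtain ⟨-, -, hxg, -, hxbx⟩ := four_facts hD hbD hx hx4
  rw [hxval] at hxg hxbx
  refine ⟨x, ⟨hx, hx4⟩, ?_⟩
  have hbb := sq_one hD hbD
  have haba : a * b * a = b := by rw [hab.eq, mul_assoc, sq_one hD ha, mul_one]
  have hxgx : x * g * x = g := by rw [hxg.eq, mul_assoc, sq_one hD hx, mul_one]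
  set r := a * x with hr
  have hri : r⁻¹ = x * a := by rw [hr, mul_inv_rev, inv_eq hD ha, inv_eq hD hx]
  have hrg : r * g * r⁻¹ = g * b := by
    rw [hri, hr]
    calc a * x * g * (x * a) = a * (x * g * x) * a := by simp only [mul_assoc]
      _ = g * b := by rw [hxgx, haga]
  have hrb : r * b * r⁻¹ = g := by
    rw [hri, hr]
    calc a * x * b * (x * a) = a * (x * b * x) * a := by simp only [mul_assoc]
      _ = (a * b * a) * (a * g * a) := by
          rw [hxbx]; simp only [mul_assoc]; rw [← mul_assoc a a, sq_one hD ha, one_mul]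
      _ = g := by rw [haba, haga, hgb.eq, ← mul_assoc, hbb, one_mul]
  have hr3 : r ^ 3 * b * (r ^ 3)⁻¹ = b := by
    calc r ^ 3 * b * (r ^ 3)⁻¹ = r * (r * (r * b * r⁻¹) * r⁻¹) * r⁻¹ := by
          rw [pow_succ, pow_succ, pow_one]; simp only [mul_inv_rev, mul_assoc]
      _ = r * (g * b) * r⁻¹ := by rw [hrb, hrg]
      _ = (r * g * r⁻¹) * (r * b * r⁻¹) := by group
      _ = b := by rw [hrg, hrb, hgb.eq, mul_assoc, sq_one hD hg, mul_one]
  have hgb1 : g ≠ g * b := fun h => Invol.ne_one (ord hD hbD) (mul_eq_left.mp h.symm)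
  have hne2 : r ^ 2 * b * (r ^ 2)⁻¹ ≠ b := by
    intro h
    rw [sq, mul_inv_rev,
      show r * r * b * (r⁻¹ * r⁻¹) = r * (r * b * r⁻¹) * r⁻¹ by simp only [mul_assoc],
      hrb, hrg] at h
    exact Invol.ne_one (ord hD hg) (mul_eq_right.mp h)
  have hr1 : r ≠ 1 := fun h => hne2 (by rw [h]; simp)
  have hodd : Odd (orderOf r) := by
    by_contra hno
    have h4 := pow_four_of_not_odd hD ha hx hno
    rw [← hr, pow_succ] at h4
    have hr' : r = (r ^ 3)⁻¹ := eq_inv_of_mul_eq_one_right h4
    have : r * b * r⁻¹ = b := by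
      rw [hr', inv_inv]
      conv_lhs => rw [← hr3]
      group
    rw [hrb] at this
    exact not_commute_of_four hD ha hg hg4 (this ▸ hab)
  have h3 := zpow_eq_one_of_commute hD ha hx hodd hbD hab hmem' 3 (by
    have h := mul_inv_eq_iff_eq_mul.mp hr3
    rw [← hr, show (3 : ℤ) = ((3 : ℕ) : ℤ) from rfl, zpow_natCast]
    exact h)
  rw [← hr, show (3 : ℤ) = ((3 : ℕ) : ℤ) from rfl, zpow_natCast] at h3
  have : Fact (Nat.Prime 3) := ⟨Nat.prime_three⟩
  exact orderOf_eq_prime h3 hr1

end Cfsg.Agent.RootInv
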