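import Cfsg.Agent.RootInv.Basic
import Mathlib.Data.Set.Card

/-!
# Lines of root involutions

For a, b, a * b in D let y be a member with a * y of odd order and y * b of order 4. Alternately
taking commutator values with y and with a gives a periodic sequence starting at b, so b is the
square (a * g) ^ 2 for a member g. Two members with the same odd neighbours then commute with the
same members.
-/

set_option autoImplicit false

open Cfsg

namespace Cfsg.Agent.RootInv

variable {G : Type*} [Group G] {D : Set G} {a b c p q v x y : G}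

theorem pow_four_eq_one (h : orderOf (a * b) = 4) : (a * b) ^ 4 = 1 := by
  rw [← h, pow_orderOf_eq_one]

theorem not_commute_of_four (hD : IsRootInvolutionSet D) (ha : a ∈ D) (hb : b ∈ D)
    (h : orderOf (a * b) = 4) : ¬ Commute a b := fun hc => by
  have h2 : (a * b) ^ 2 = 1 := by rw [hc.mul_pow, sq, sq, sq_one hD ha, sq_one hD hb, one_mul]
  have h3 := Nat.le_of_dvd two_pos (orderOf_dvd_of_pow_eq_one h2)
  omega

theorem not_commute_of_odd (hD : IsRootInvolutionSet D) (ha : a ∈ D) (hb : b ∈ D) (hne : a ≠ b)
    (h : Odd (orderOf (a * b))) : ¬ Commute a b := fun hc => by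
  have h2 : (a * b) ^ 2 = 1 := by rw [hc.mul_pow, sq, sq, sq_one hD ha, sq_one hD hb, one_mul]
  have h1 := (Nat.coprime_two_right.2 h).eq_one_of_dvd (orderOf_dvd_of_pow_eq_one h2)
  rw [orderOf_eq_one_iff, mul_eq_one_iff_eq_inv, inv_eq hD hb] at h1
  exact hne h1

theorem not_odd_of_four (h : orderOf (a * b) = 4) : ¬ Odd (orderOf (a * b)) := by
  rw [h]; decide

/-- The basic facts about the square of a product of order 4. -/
theorem four_facts (hD : IsRootInvolutionSet D) (ha : a ∈ D) (hb : b ∈ D)
    (h : orderOf (a * b) = 4) :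
    (a * b) ^ 2 ∈ D ∧ Commute a ((a * b) ^ 2) ∧ Commute b ((a * b) ^ 2) ∧
      a * b * a = b * (a * b) ^ 2 ∧ b * a * b = a * (a * b) ^ 2 := by
  have hmem : (a * b) ^ 2 ∈ D := by
    rcases hD.pair a ha b hb with h' | h' | h'
    · exact absurd h' (not_commute_of_four hD ha hb h)
    · exact absurd h' (not_odd_of_four h)
    · exact h'.2
  have hinv : ((a * b) ^ 2)⁻¹ = (a * b) ^ 2 := inv_eq hD hmem
  have hrev : (a * b) ^ 2 = (b * a) ^ 2 := by
    conv_lhs => rw [← hinv]
    rw [← inv_pow, mul_inv_rev, inv_eq hD ha, inv_eq hD hb]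
  have e1 : b * a * b = a * (a * b) ^ 2 := by
    rw [sq]; simp only [← mul_assoc]; rw [sq_one hD ha, one_mul]
  have e2 : a * b * a = b * (a * b) ^ 2 := by
    rw [hrev, sq]; simp only [← mul_assoc]; rw [sq_one hD hb, one_mul]
  refine ⟨hmem, ?_, ?_, e2, e1⟩
  · show a * _ = _ * a
    rw [← e1, hrev, sq]
    simp only [mul_assoc]
    rw [sq_one hD ha, mul_one]
  · show b * _ = _ * b
    rw [← e2, sq]
    simp only [mul_assoc]
    rw [sq_one hD hb, mul_one]

/-- A product of two members is not an element of odd order times a commuting involution. -/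
theorem eq_one_of_prod (hD : IsRootInvolutionSet D) {r : G} (hp : p ∈ D) (hq : q ∈ D)
    (hpq : p * q = r * c) (hc : c * c = 1) (hc1 : c ≠ 1) (hrc : Commute r c)
    (hr : Odd (orderOf r)) : r = 1 := by
  have hdvd : ∀ n : ℕ, Even n → (p * q) ^ n = 1 → r ^ n = 1 := by
    rintro n ⟨k, hk⟩ h
    rw [hpq, hrc.mul_pow] at h
    rwa [show c ^ n = 1 by rw [hk, ← two_mul, pow_mul, sq, hc, one_pow], mul_one] at h
  have hsmall : ∀ k : ℕ, r ^ 2 ^ k = 1 → r = 1 := fun k h =>
    orderOf_eq_one_iff.mp
      (((Nat.coprime_two_right.2 hr).pow_right k).eq_one_of_dvd (orderOf_dvd_of_pow_eq_one h))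
  rcases hD.pair p hp q hq with h | h | ⟨h, -⟩
  · refine hsmall 1 (hdvd _ (by decide) ?_)
    rw [pow_one, (show Commute p q from h).mul_pow, sq, sq, sq_one hD hp, sq_one hD hq, one_mul]
  · exfalso
    set n := orderOf (p * q) with hn
    have h1 : r ^ n * c ^ n = 1 := by rw [← hrc.mul_pow, ← hpq, hn, pow_orderOf_eq_one]
    obtain ⟨t, ht⟩ := h
    rw [show c ^ n = c by rw [ht, pow_succ, pow_mul, sq, hc, one_pow, one_mul]] at h1
    have h2 : (r ^ n) ^ orderOf r = 1 := by
      rw [← pow_mul, mul_comm, pow_mul, pow_orderOf_eq_one, one_pow]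
    rw [eq_inv_of_mul_eq_one_left h1, inv_pow, inv_eq_one] at h2
    obtain ⟨u, hu⟩ := hr
    rw [hu, pow_succ, pow_mul, sq, hc, one_pow, one_mul] at h2
    exact hc1 h2
  · exact hsmall 2 (hdvd _ (by decide) (pow_four_eq_one h))

/-- No non-identity power of a * x commutes with a product partner of a. -/
theorem zpow_eq_one_of_commute (hD : IsRootInvolutionSet D) (ha : a ∈ D) (hx : x ∈ D)
    (hodd : Odd (orderOf (a * x))) (hc : c ∈ D) (hac : Commute a c) (hmem : a * c ∈ D) (k : ℤ)
    (hkc : Commute ((a * x) ^ k) c) : (a * x) ^ k = 1 := by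
  set ρ := (a * x) ^ k with hρ
  have hρodd : Odd (orderOf ρ) :=
    Odd.of_dvd_nat hodd (orderOf_dvd_of_mem_zpowers (Subgroup.zpow_mem_zpowers _ k))
  obtain ⟨t, ht⟩ := hρodd
  have hinv : a * ρ * a = ρ⁻¹ := by
    have h := Invol.conj_zpow_self (ord hD ha) (ord hD hx) k
    rwa [zpow_neg, inv_eq hD ha] at h
  have hq : ρ ^ t * (a * c) * (ρ ^ t)⁻¹ = a * ρ * c := by
    have h1 : a * (ρ ^ t)⁻¹ * a = ρ ^ t := by
      have h2 : (a * ρ * a⁻¹) ^ t = a * ρ ^ t * a⁻¹ := conj_pow
      rw [inv_eq hD ha, hinv, inv_pow] at h2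
      rw [h2]
      simp only [mul_assoc]
      rw [sq_one hD ha, mul_one, ← mul_assoc, sq_one hD ha, one_mul]
    have h3 : ρ ^ t * a = a * (ρ ^ t)⁻¹ := by
      rw [← h1, mul_assoc, sq_one hD ha, mul_one, h1]
    have h4 : (ρ ^ t)⁻¹ * (ρ ^ t)⁻¹ = ρ := by
      rw [← mul_inv_rev, ← pow_add]
      refine inv_eq_of_mul_eq_one_left ?_
      rw [← pow_succ', ← two_mul, ← ht, pow_orderOf_eq_one]
    calc ρ ^ t * (a * c) * (ρ ^ t)⁻¹ = ρ ^ t * a * (c * (ρ ^ t)⁻¹) := by simp only [mul_assoc]
      _ = a * ((ρ ^ t)⁻¹ * (ρ ^ t)⁻¹) * c := by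
          rw [h3, ← ((hkc.pow_left t).inv_left).eq]; simp only [mul_assoc]
      _ = a * ρ * c := by rw [h4]
  refine eq_one_of_prod hD ha (hD.conj_mem _ hmem (ρ ^ t)) ?_ (sq_one hD hc)
    (Invol.ne_one (ord hD hc)) hkc ⟨t, ht⟩
  rw [hq, ← mul_assoc, ← mul_assoc, sq_one hD ha, one_mul]

/-- An odd neighbour of a does not commute with a product partner of a. -/
theorem not_commute_partner (hD : IsRootInvolutionSet D) (ha : a ∈ D) (hx : x ∈ D) (hne : a ≠ x)
    (hodd : Odd (orderOf (a * x))) (hc : c ∈ D) (hac : Commute a c) (hmem : a * c ∈ D) :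
    ¬ Commute x c := by
  intro h
  have h1 := zpow_eq_one_of_commute hD ha hx hodd hc hac hmem 1 (by
    rw [zpow_one]; exact hac.mul_left h)
  rw [zpow_one, mul_eq_one_iff_eq_inv, inv_eq hD hx] at h1
  exact hne h1

/-! ### The chain -/

/-- One link: v a product partner of q with order four against p. -/
structure Link (D : Set G) (p q v : G) : Prop where
  mem : v ∈ D
  comm : Commute q v
  prod : q * v ∈ D
  four : orderOf (p * v) = 4

theorem Link.next (hD : IsRootInvolutionSet D) (hp : p ∈ D) (hq : q ∈ D) (hne : p ≠ q)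
    (hodd : Odd (orderOf (p * q))) (h : Link D p q v) : Link D q p ((p * v) ^ 2) := by
  obtain ⟨hw, hpw, hvw, hpvp, hvpv⟩ := four_facts hD hp h.mem h.four
  set w := (p * v) ^ 2 with hwdef
  have hpwD : p * w ∈ D := by rw [← hvpv]; exact conj_mem hD h.mem hp
  refine ⟨hw, hpw, hpwD, ?_⟩
  rcases hD.pair q hq w hw with h' | h' | h'
  · exact absurd h' (not_commute_partner hD hp hq hne hodd hw hpw hpwD)
  · exfalso
    have hvwD : v * w ∈ D := by rw [← hpvp]; exact conj_mem hD hp h.mem
    have hne' : q * w ≠ 1 := by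
      intro he
      rw [mul_eq_one_iff_eq_inv, inv_eq hD hw] at he
      exact not_commute_of_odd hD hp hq hne hodd (he ▸ hpw)
    refine hne' (eq_one_of_prod hD hq hvwD ?_ (sq_one hD h.mem) (Invol.ne_one (ord hD h.mem))
      (h.comm.symm.mul_right hvw).symm h')
    rw [mul_assoc q w, ← hvw.eq]
  · exact h'.1

/-- The operators of the chain. -/
def side (y a : G) (n : ℕ) : G := if Even n then y else a

/-- The chain starting at b. -/
def chain (y a b : G) : ℕ → G
  | 0 => b
  | n + 1 => (side y a n * chain y a b n) ^ 2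

theorem side_succ (y a : G) (n : ℕ) : side y a (n + 1) = side a y n := by
  unfold side; simp [Nat.even_add_one]; split <;> simp_all

theorem side_succ_succ (y a : G) (n : ℕ) : side y a (n + 2) = side y a n := by
  rw [side_succ, side_succ]

theorem side_cases (y a : G) (n : ℕ) :
    (side y a n = y ∧ side y a (n + 1) = a) ∨ (side y a n = a ∧ side y a (n + 1) = y) := by
  unfold side; by_cases h : Even n <;> simp [h, Nat.even_add_one]

/-- The hypotheses of the chain. -/
structure Start (D : Set G) (y a b : G) : Prop where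
  set : IsRootInvolutionSet D
  memY : y ∈ D
  memA : a ∈ D
  ne : y ≠ a
  odd : Odd (orderOf (y * a))
  link : Link D y a b

namespace Start

variable (S : Start D y a b)
include S

theorem side_mem (n : ℕ) : side y a n ∈ D := by
  unfold side; split
  exacts [S.memY, S.memA]

theorem side_odd (n : ℕ) : side y a n ≠ side y a (n + 1) ∧
    Odd (orderOf (side y a n * side y a (n + 1))) := by
  rcases side_cases y a n with ⟨h1, h2⟩ | ⟨h1, h2⟩ <;> rw [h1, h2]
  · exact ⟨S.ne, S.odd⟩
  · exact ⟨S.ne.symm, by rw [orderOf_swap]; exact S.odd⟩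

theorem link_at (n : ℕ) : Link D (side y a n) (side y a (n + 1)) (chain y a b n) := by
  induction n with
  | zero => exact S.link
  | succ n ih =>
    rw [side_succ_succ]
    exact ih.next S.set (S.side_mem n) (S.side_mem (n + 1)) (S.side_odd n).1 (S.side_odd n).2

theorem move (n : ℕ) :
    side y a n * chain y a b n * side y a n = chain y a b n * chain y a b (n + 1) :=
  (four_facts S.set (S.side_mem n) (S.link_at n).mem (S.link_at n).four).2.2.2.1

theorem fix (n : ℕ) :
    side y a (n + 1) * chain y a b n * side y a (n + 1) = chain y a b n := by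
  rw [(S.link_at n).comm.eq, mul_assoc, sq_one S.set (S.side_mem _), mul_one]

theorem commute_step (n : ℕ) : Commute (chain y a b n) (chain y a b (n + 1)) :=
  (four_facts S.set (S.side_mem n) (S.link_at n).mem (S.link_at n).four).2.2.1

theorem commute_add : ∀ d i : ℕ, Commute (chain y a b i) (chain y a b (i + d)) := by
  intro d
  induction d using Nat.strong_induction_on with
  | _ d ih =>
    match d, ih with
    | 0, _ => exact fun i => Commute.refl _
    | 1, _ => exact fun i => S.commute_step i
    | d + 2, ih =>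
      intro i
      have h0 : Commute (chain y a b i) (chain y a b (i + (d + 1))) := ih (d + 1) (by omega) i
      have hp := S.side_mem (i + (d + 1))
      have hc := (Commute.conj_iff (side y a (i + (d + 1)))).2 h0
      rw [inv_eq S.set hp, S.move] at hc
      rcases Nat.even_or_odd d with he | ho
      · -- the operator fixes the first element
        have hs : side y a (i + (d + 1)) = side y a (i + 1) := by
          unfold side; simp [Nat.even_add, he]
        rw [hs, S.fix] at hc
        have h1 := h0.inv_right.mul_right hc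
        rwa [inv_mul_cancel_left, show i + (d + 1) + 1 = i + (d + 2) by ring] at h1
      · have hs : side y a (i + (d + 1)) = side y a i := by
          unfold side; simp [Nat.even_add, Nat.not_even_iff_odd.mpr ho]
        rw [hs, S.move] at hc
        have e1 : Commute (chain y a b (i + 1)) (chain y a b (i + (d + 1))) := by
          have := ih d (by omega) (i + 1)
          rwa [show i + 1 + d = i + (d + 1) by ring] at this
        have e2 : Commute (chain y a b (i + 1)) (chain y a b (i + (d + 2))) := by
          have := ih (d + 1) (by omega) (i + 1)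
          rwa [show i + 1 + (d + 1) = i + (d + 2) by ring] at this
        rw [show i + (d + 1) + 1 = i + (d + 2) by ring] at hc
        have h3 := hc.mul_left (e1.mul_right e2).inv_left
        rw [mul_inv_cancel_right] at h3
        have h4 := h0.inv_right.mul_right h3
        rwa [inv_mul_cancel_left] at h4

theorem commute_all (i j : ℕ) : Commute (chain y a b i) (chain y a b j) := by
  rcases le_total i j with h | h
  · obtain ⟨d, rfl⟩ := Nat.exists_eq_add_of_le h; exact S.commute_add d i
  · obtain ⟨d, rfl⟩ := Nat.exists_eq_add_of_le h; exact (S.commute_add d j).symm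

theorem conj_span (p : G) (hp : p = y ∨ p = a) {z : G}
    (hz : z ∈ Subgroup.closure (Set.range (chain y a b))) :
    p * z * p⁻¹ ∈ Subgroup.closure (Set.range (chain y a b)) := by
  have hle : Subgroup.closure (Set.range (chain y a b)) ≤
      (Subgroup.closure (Set.range (chain y a b))).comap (MulAut.conj p).toMonoidHom := by
    rw [Subgroup.closure_le]
    rintro z ⟨n, rfl⟩
    show p * chain y a b n * p⁻¹ ∈ Subgroup.closure (Set.range (chain y a b))
    have hpn : p = side y a n ∨ p = side y a (n + 1) := by
      rcases side_cases y a n with ⟨h1, h2⟩ | ⟨h1, h2⟩ <;> rw [h1, h2] <;> tauto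
    rcases hpn with rfl | rfl
    · rw [inv_eq S.set (S.side_mem n), S.move]
      exact mul_mem (Subgroup.subset_closure ⟨n, rfl⟩) (Subgroup.subset_closure ⟨n + 1, rfl⟩)
    · rw [inv_eq S.set (S.side_mem _), S.fix]
      exact Subgroup.subset_closure ⟨n, rfl⟩
  exact hle hz

theorem span_sq {z : G} (hz : z ∈ Subgroup.closure (Set.range (chain y a b))) : z * z = 1 := by
  have hcomm : ∀ u ∈ Subgroup.closure (Set.range (chain y a b)),
      ∀ w ∈ Subgroup.closure (Set.range (chain y a b)), Commute u w := by
    have h1 : Subgroup.closure (Set.range (chain y a b)) ≤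
        Subgroup.centralizer (Subgroup.closure (Set.range (chain y a b)) : Set G) := by
      rw [Subgroup.closure_le]
      rintro u ⟨i, rfl⟩
      rw [SetLike.mem_coe, Subgroup.mem_centralizer_iff]
      intro w hw
      induction hw using Subgroup.closure_induction with
      | mem x hx => obtain ⟨j, rfl⟩ := hx; exact (S.commute_all j i).eq
      | one => exact (Commute.one_left _).eq
      | mul x z _ _ hx hz => exact ((show Commute x _ from hx).mul_left hz).eq
      | inv x _ hx => exact (show Commute x _ from hx).inv_left.eq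
    exact fun u hu w hw => (Subgroup.mem_centralizer_iff.mp (h1 hu) w hw).symm
  induction hz using Subgroup.closure_induction with
  | mem x hx => obtain ⟨j, rfl⟩ := hx; exact sq_one S.set (S.link_at j).mem
  | one => exact one_mul 1
  | mul x z hx hz ihx ihz => rw [(hcomm z hz x hx).mul_mul_mul_comm, ihx, ihz, one_mul]
  | inv x _ ihx => rw [← mul_inv_rev, ihx, inv_one]

/-- A product of two elements of the chain commuting with a and y is trivial. -/
theorem eq_of_fixed {i j : ℕ} (hij : side y a i = side y a j)
    (h1 : Commute (side y a i) (chain y a b i * chain y a b j))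
    (h2 : Commute (side y a (i + 1)) (chain y a b i * chain y a b j)) :
    chain y a b i = chain y a b j := by
  have hD := S.set
  set W := Subgroup.closure (Set.range (chain y a b))
  set p := side y a i with hp
  set q := side y a (i + 1) with hq
  have hqj : q = side y a (j + 1) := by
    rw [hq, side_succ, side_succ]
    unfold side at hp hij ⊢
    have := S.ne
    split <;> split <;> simp_all
  have hpD : p ∈ D := S.side_mem i
  have hqD : q ∈ D := S.side_mem (i + 1)
  have hvD := (S.link_at i).mem
  have hvW : chain y a b i ∈ W := Subgroup.subset_closure ⟨i, rfl⟩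
  set v := chain y a b i
  set u := v * chain y a b j with hu
  by_contra hne
  have hu1 : u ≠ 1 := fun h => hne (by
    rw [hu, mul_eq_one_iff_eq_inv, inv_eq hD (S.link_at j).mem] at h; exact h)
  have huW : u ∈ W := mul_mem hvW (Subgroup.subset_closure ⟨j, rfl⟩)
  have he : q * v ∈ D := (S.link_at i).prod
  have he' : q * chain y a b j ∈ D := hqj ▸ (S.link_at j).prod
  have hodd : Odd (orderOf (p * (q * v))) := by
    by_contra hno
    have h4 := pow_four_of_not_odd hD hpD he hno
    have hrW : ∀ z ∈ W, p * q * z * (p * q)⁻¹ ∈ W := fun z hz => by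
      have hpq : (p = y ∨ p = a) ∧ (q = y ∨ q = a) := by
        rcases side_cases y a i with ⟨h1, h2⟩ | ⟨h1, h2⟩ <;> rw [hp, hq, h1, h2] <;> tauto
      have := S.conj_span p hpq.1 (S.conj_span q hpq.2 hz)
      simpa [mul_assoc] using this
    have hpow : ∀ n : ℕ, (p * (q * v)) ^ n * ((p * q) ^ n)⁻¹ ∈ W := by
      intro n
      induction n with
      | zero => simp
      | succ n ih =>
        have e : (p * (q * v)) ^ (n + 1) * ((p * q) ^ (n + 1))⁻¹ =
            p * q * (v * ((p * (q * v)) ^ n * ((p * q) ^ n)⁻¹)) * (p * q)⁻¹ := by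
          rw [pow_succ', pow_succ' (p * q), mul_inv_rev]
          simp only [mul_assoc]
        rw [e]
        exact hrW _ (mul_mem hvW ih)
    have h8 : (p * q) ^ 2 ^ 3 = 1 := by
      have := S.span_sq (hpow 4)
      rw [h4, one_mul, ← mul_inv_rev, inv_eq_one, ← pow_add] at this
      exact this
    have h1' := ((Nat.coprime_two_right.2 (S.side_odd i).2).pow_right 3).eq_one_of_dvd
      (orderOf_dvd_of_pow_eq_one h8)
    rw [orderOf_eq_one_iff, mul_eq_one_iff_eq_inv, inv_eq hD hqD] at h1'
    exact (S.side_odd i).1 h1'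
  have hvu : chain y a b j = v * u := by
    rw [hu, ← mul_assoc, sq_one hD hvD, one_mul]
  have hcv : Commute v u := (Commute.refl v).mul_right (S.commute_all i j)
  have h3 := eq_one_of_prod hD hpD he' (r := p * (q * v)) (c := u)
    (by rw [hvu]; simp only [mul_assoc]) (S.span_sq huW) hu1
    (h1.mul_left (h2.mul_left hcv)) hodd
  rw [mul_eq_one_iff_eq_inv, inv_eq hD he] at h3
  apply not_commute_of_odd hD hpD hqD (S.side_odd i).1 (S.side_odd i).2
  show Commute p q
  rw [h3]
  exact (Commute.refl q).mul_left ((S.link_at i).comm.symm)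

/-- The chain can be traced backwards. -/
theorem back {i j : ℕ} (hij : side y a i = side y a j)
    (h : chain y a b (i + 1) = chain y a b (j + 1)) : chain y a b i = chain y a b j := by
  have hD := S.set
  have hpar : side y a (i + 1) = side y a (j + 1) := by
    rcases side_cases y a i with ⟨h1, h2⟩ | ⟨h1, h2⟩ <;>
      rcases side_cases y a j with ⟨h3, h4⟩ | ⟨h3, h4⟩ <;>
      simp_all [S.ne, S.ne.symm]
  refine S.eq_of_fixed hij ?_ ?_
  · set p := side y a i with hp
    have hpD : p ∈ D := S.side_mem i
    have e : p * (chain y a b i * chain y a b j) * p =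
        chain y a b i * chain y a b j := by
      have e1 : p * (chain y a b i * chain y a b j) * p =
          (p * chain y a b i * p) * (p * chain y a b j * p) := by
        simp only [mul_assoc]
        rw [← mul_assoc p p, sq_one hD hpD, one_mul]
      rw [e1, hp, S.move, ← hp, hij, S.move, ← h]
      simp only [mul_assoc]
      rw [← mul_assoc (chain y a b (i + 1)) (chain y a b j),
        (S.commute_all (i + 1) j).eq, mul_assoc, sq_one hD (S.link_at _).mem, mul_one]
    show p * _ = _ * p
    conv_rhs => rw [← e]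
    simp only [mul_assoc]
    rw [sq_one hD hpD, mul_one]
  · exact (S.link_at i).comm.mul_right (hpar ▸ (S.link_at j).comm)

/-- The chain is periodic and b is a commutator value with a. -/
theorem exists_swap [Finite G] :
    ∃ g ∈ D, Commute y g ∧ orderOf (a * g) = 4 ∧ (a * g) ^ 2 = b := by
  obtain ⟨i, j, hne, he⟩ := Finite.exists_ne_map_eq_of_infinite fun n : ℕ => chain y a b (2 * n)
  wlog hlt : i < j generalizing i j
  · exact this j i hne.symm he.symm (lt_of_le_of_ne (not_lt.mp hlt) hne.symm)
  obtain ⟨k, rfl⟩ := Nat.exists_eq_add_of_lt hlt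
  have hside : ∀ n, side y a (n + 2 * (k + 1)) = side y a n := fun n => by
    unfold side; simp [Nat.even_add]
  have key : ∀ n, chain y a b n = chain y a b (n + 2 * (k + 1)) →
      chain y a b 0 = chain y a b (2 * (k + 1)) := by
    intro n
    induction n with
    | zero => intro h; simpa using h
    | succ n ih =>
      intro h
      refine ih (S.back (hside n).symm ?_)
      rwa [show n + 2 * (k + 1) + 1 = n + 1 + 2 * (k + 1) by ring]
  have h0 := key (2 * i) (by rw [show 2 * i + 2 * (k + 1) = 2 * (i + k + 1) by ring]; exact he)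
  obtain ⟨hm, hc, hp, hf⟩ := S.link_at (2 * k + 1)
  have hs : side y a (2 * k + 1) = a := by unfold side; simp
  have hs' : side y a (2 * k + 1 + 1) = y := by unfold side; simp [Nat.even_add_one]
  rw [hs] at hf
  rw [hs'] at hc
  refine ⟨_, hm, hc, hf, ?_⟩
  rw [show 2 * (k + 1) = 2 * k + 1 + 1 by ring] at h0
  conv_rhs => rw [show b = chain y a b 0 from rfl, h0, chain, hs]

end Start

/-- b is a commutator value with a. -/
theorem exists_swap [Finite G] (hD : IsRootInvolutionSet D) (ha : a ∈ D) (hy : y ∈ D)
    (hne : y ≠ a) (hodd : Odd (orderOf (y * a))) (hb : b ∈ D) (hab : Commute a b)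
    (hmem : a * b ∈ D) (hno : ¬ Odd (orderOf (y * b))) :
    ∃ g ∈ D, Commute y g ∧ orderOf (a * g) = 4 ∧ (a * g) ^ 2 = b := by
  rcases hD.pair y hy b hb with h | h | ⟨h, -⟩
  · exact absurd h (not_commute_partner hD ha hy hne.symm (by rw [orderOf_swap]; exact hodd) hb hab hmem)
  · exact absurd h hno
  · exact (Start.mk hD hy ha hne hodd ⟨hb, hab, hmem, h⟩).exists_swap

end Cfsg.Agent.RootInv
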