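import Cfsg.Agent.RootInv.Basic
import Cfsg.Prelude.Def_QuasithinSetup
import Mathlib.GroupTheory.Solvable
import Mathlib.GroupTheory.Abelianization.Defs
import Mathlib.GroupTheory.GroupAction.ConjAct
import Mathlib.GroupTheory.Subgroup.Simple

/-!
# Normal subgroups of a group generated by a connected set of root involutions

If some product of two commuting members is a member, every proper normal subgroup is central
modulo `O_2(G)`.
-/

set_option autoImplicit false

open Cfsg

namespace Cfsg.Agent.RootInv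

variable {G : Type*} [Group G] {D : Set G}

theorem isConj_of_connected (hD : IsRootInvolutionSet D) (hc : IsConnectedSet (OddAdj D) D)
    {a b : G} (ha : a ∈ D) (hb : b ∈ D) : IsConj a b := by
  induction hc a ha b hb with
  | refl => exact IsConj.refl a
  | tail _ hlast ih =>
    obtain ⟨hy, hz, -, ho⟩ := hlast
    exact (ih hy).trans (Invol.isConj_of_odd (ord hD hy) (ord hD hz) ho)

theorem exists_triangle (hD : IsRootInvolutionSet D) (hc : IsConnectedSet (OddAdj D) D)
    (hDD : (D ∩ commutingProducts D).Nonempty) {d : G} (hd : d ∈ D) :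
    ∃ c ∈ D, Commute d c ∧ d * c ∈ D := by
  obtain ⟨x, hx, a, ha, b, hb, hab, -, rfl⟩ := hDD
  obtain ⟨g, rfl⟩ := isConj_iff.1 (isConj_of_connected hD hc ha hd)
  refine ⟨g * b * g⁻¹, hD.conj_mem b hb g, (Commute.conj_iff g).2 hab, ?_⟩
  have h := hD.conj_mem _ hx g
  simpa [mul_assoc] using h

theorem commutator_eq_top (hD : IsRootInvolutionSet D) (hc : IsConnectedSet (OddAdj D) D)
    (hDD : (D ∩ commutingProducts D).Nonempty) : commutator G = ⊤ := by
  rw [eq_top_iff, ← hD.generates, Subgroup.closure_le]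
  intro d hd
  obtain ⟨c, hcD, -, hdc⟩ := exists_triangle hD hc hDD hd
  have heq : ∀ x ∈ D, Abelianization.of x = Abelianization.of d := fun x hx =>
    isConj_iff_eq.1 ((Abelianization.of).map_isConj (isConj_of_connected hD hc hx hd))
  have h := heq _ hdc
  rw [map_mul, heq c hcD, mul_eq_left] at h
  rwa [SetLike.mem_coe, ← Abelianization.ker_of, MonoidHom.mem_ker]

theorem eq_top_of_mem (hD : IsRootInvolutionSet D) (hc : IsConnectedSet (OddAdj D) D)
    {N : Subgroup G} [hN : N.Normal] {d : G} (hd : d ∈ D) (hdN : d ∈ N) : N = ⊤ := by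
  rw [eq_top_iff, ← hD.generates, Subgroup.closure_le]
  intro x hx
  obtain ⟨g, rfl⟩ := isConj_iff.1 (isConj_of_connected hD hc hd hx)
  exact hN.conj_mem d hdN g

theorem eq_one_of_sq_of_odd {H : Type*} [Group H] {w : H} {n : ℕ} (h2 : w * w = 1)
    (hn : w ^ n = 1) (hodd : Odd n) : w = 1 := by
  obtain ⟨m, rfl⟩ := hodd
  rwa [pow_succ, pow_mul, sq, h2, one_pow, one_mul] at hn

theorem mul_notMem_of_oddAdj (hD : IsRootInvolutionSet D) (hc : IsConnectedSet (OddAdj D) D)
    (hDD : (D ∩ commutingProducts D).Nonempty) {N : Subgroup G} [N.Normal] (hne : N ≠ ⊤)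
    {u z : G} (h : OddAdj D u z) : u * z ∉ N := by
  intro hr
  obtain ⟨hu, hz, hne', ho⟩ := id h
  obtain ⟨c, hcD, huc, hucD⟩ := exists_triangle hD hc hDD hu
  let q := QuotientGroup.mk' N
  have hq : ∀ x : G, q x = 1 ↔ x ∈ N := fun x => by
    rw [← MonoidHom.mem_ker, QuotientGroup.ker_mk']
  have hquz : q u * q z = 1 := by rw [← map_mul, hq]; exact hr
  have hqz : q z = q u := by
    have hu2 : q u * q u = 1 := by rw [← map_mul, sq_one hD hu, map_one]
    exact mul_left_cancel (hquz.trans hu2.symm)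
  by_cases hall : ∀ k : ℤ, (c * (u * (u * z) ^ k)) ^ 4 = 1
  · obtain ⟨-, -, -, ho'⟩ := oddAdj_mul_of_four hD hu hcD huc hucD h hall
    apply hne (eq_top_of_mem hD hc hcD ?_)
    rw [← hq]
    have h1 : q (z * (u * c)) = q c := by
      rw [map_mul, map_mul, hqz, ← mul_assoc, ← map_mul, sq_one hD hu, map_one, one_mul]
    refine eq_one_of_sq_of_odd (by rw [← map_mul, sq_one hD hcD, map_one]) ?_ ho'
    rw [← h1, ← map_pow, pow_orderOf_eq_one, map_one]
  · push Not at hall
    obtain ⟨k, hk⟩ := hall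
    have hy := reflection_mem hD h k
    have ho' : Odd (orderOf (c * (u * (u * z) ^ k))) := by
      by_contra ho'
      exact hk (pow_four_of_not_odd hD hcD hy ho')
    apply hne (eq_top_of_mem hD hc hucD ?_)
    rw [← hq]
    have h1 : q (c * (u * (u * z) ^ k)) = q (u * c) := by
      rw [map_mul, map_mul, map_zpow, map_mul, hquz, one_zpow, mul_one, ← map_mul, huc.eq]
    refine eq_one_of_sq_of_odd (by rw [← map_mul, sq_one hD hucD, map_one]) ?_ ho'
    rw [← h1, ← map_pow, pow_orderOf_eq_one, map_one]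

theorem le_twoZCore [Finite G] (hD : IsRootInvolutionSet D) (hc : IsConnectedSet (OddAdj D) D)
    (hDD : (D ∩ commutingProducts D).Nonempty) {N : Subgroup G} [hN : N.Normal] (hne : N ≠ ⊤) :
    N ≤ twoZCore G := by
  have : Fact (Nat.Prime 2) := ⟨Nat.prime_two⟩
  intro n hn
  let q := QuotientGroup.mk' (pCore 2 G)
  have hcomm : ∀ d ∈ D, Commute (q n) (q d) := by
    intro d hd
    -- conjugates of `d` by elements of `N` generate 2-groups with `d`
    have hpair : ∀ m ∈ N, (d * (m * d * m⁻¹)) ^ 4 = 1 := by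
      intro m hm
      have hmD := hD.conj_mem d hd m
      by_cases he : d = m * d * m⁻¹
      · rw [← he, sq_one hD hd, one_pow]
      refine pow_four_of_not_odd hD hd hmD fun ho =>
        mul_notMem_of_oddAdj hD hc hDD hne ⟨hd, hmD, he, ho⟩ ?_
      have h1 := N.mul_mem (hN.conj_mem m hm d) (N.inv_mem hm)
      rw [inv_eq hD hd] at h1
      simpa [mul_assoc] using h1
    set H := N ⊔ Subgroup.zpowers d with hH
    have hdH : d ∈ H := (le_sup_right : Subgroup.zpowers d ≤ H) (Subgroup.mem_zpowers d)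
    let d' : ↥H := ⟨d, hdH⟩
    have hd' : orderOf d' = 2 := by rw [← Subgroup.orderOf_coe]; exact ord hD hd
    have hX : IsPGroup 2 (Subgroup.zpowers d') :=
      IsPGroup.of_card (n := 1) (by rw [Nat.card_zpowers, hd', pow_one])
    obtain ⟨M, hMn, hMp, hle⟩ := Invol.baerSuzuki (Subgroup.zpowers d') hX fun g => by
      have hv : orderOf (g * d' * g⁻¹) = 2 := (Invol.orderOf_conj g d').trans hd'
      have h4 : (d' * (g * d' * g⁻¹)) ^ 4 = 1 := by
        obtain ⟨m, hm, w, hw, hg⟩ := Subgroup.mem_sup_of_normal_left.1 g.2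
        have heq : (g : G) * d * (g : G)⁻¹ = m * d * m⁻¹ := by
          obtain ⟨i, rfl⟩ := Subgroup.mem_zpowers_iff.1 hw
          rw [← hg, mul_inv_rev]
          have : d ^ i * d * (d ^ i)⁻¹ = d := by
            rw [(Commute.zpow_self d i).eq, mul_inv_cancel_right]
          calc m * d ^ i * d * ((d ^ i)⁻¹ * m⁻¹) = m * (d ^ i * d * (d ^ i)⁻¹) * m⁻¹ := by
                simp only [mul_assoc]
            _ = m * d * m⁻¹ := by rw [this]
        apply Subtype.ext
        show (d * ((g : G) * d * (g : G)⁻¹)) ^ 4 = 1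
        rw [heq]
        exact hpair m hm
      refine IsPGroup.to_le ?_ (K := Subgroup.closure ({d', g * d' * g⁻¹} : Set ↥H)) ?_
      · intro u
        refine ⟨3, ?_⟩
        apply Subtype.ext
        rw [SubmonoidClass.coe_pow, OneMemClass.coe_one]
        obtain ⟨j, hj | hj⟩ := Invol.closure_mem hd' hv u.2
        · have h8 : (d' * (g * d' * g⁻¹)) ^ (2 ^ 3) = 1 := by
            rw [show (2 : ℕ) ^ 3 = 4 * 2 from rfl, pow_mul, h4, one_pow]
          rw [hj, ← zpow_natCast, ← zpow_mul, mul_comm j, zpow_mul, zpow_natCast, h8, one_zpow]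
        · rw [hj, pow_succ', pow_mul, pow_two, Invol.sq_self_mul_zpow hd' hv, one_pow]
      · rw [MonoidHom.map_zpowers, sup_le_iff, Subgroup.zpowers_le, Subgroup.zpowers_le]
        exact ⟨Invol.self_mem_closure, Invol.other_mem_closure⟩
    -- the normal 2-subgroup `M ∩ N` of `N` contains the commutator
    let M' : Subgroup G := M.map H.subtype
    let K : Subgroup ↥N := M'.subgroupOf N
    have hNH : N ≤ H := le_sup_left
    have hKn : K.Normal := by
      refine ⟨fun x hx m => ?_⟩
      obtain ⟨y, hy, hyx⟩ := hx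
      exact ⟨(⟨m, hNH m.2⟩ : ↥H) * y * (⟨m, hNH m.2⟩ : ↥H)⁻¹, hMn.conj_mem y hy _, by
        show (m : G) * (H.subtype y) * (m : G)⁻¹ = _
        rw [hyx]; rfl⟩
    have hKp : IsPGroup 2 K :=
      IsPGroup.comap_of_injective (hMp.map H.subtype) N.subtype N.subtype_injective
    have hK : K.map N.subtype ≤ pCore 2 G := by
      refine (Subgroup.map_mono (Core.le_pCore hKp)).trans ?_
      have : ((pCore 2 ↥N).map N.subtype).Normal := inferInstance
      exact Core.le_pCore (Core.pCore_isPGroup.map _)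
    have hcN : n * d * n⁻¹ * d⁻¹ ∈ N := by
      have h1 := N.mul_mem hn (hN.conj_mem _ (N.inv_mem hn) d)
      simpa [mul_assoc] using h1
    have hcM : n * d * n⁻¹ * d⁻¹ ∈ M' := by
      have hdM := hle (Subgroup.mem_zpowers d')
      exact ⟨(⟨n, hNH hn⟩ : ↥H) * d' * (⟨n, hNH hn⟩ : ↥H)⁻¹ * d'⁻¹,
        M.mul_mem (hMn.conj_mem d' hdM _) (M.inv_mem hdM), rfl⟩
    have h2 : q (n * d * n⁻¹ * d⁻¹) = 1 :=
      (QuotientGroup.eq_one_iff _).2 (hK ⟨⟨_, hcN⟩, hcM, rfl⟩)
    rw [map_mul, map_mul, map_mul, map_inv, map_inv, mul_inv_eq_one, mul_inv_eq_iff_eq_mul] at h2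
    exact h2
  show q n ∈ Subgroup.center _
  rw [Subgroup.mem_center_iff]
  intro x
  obtain ⟨g, rfl⟩ := QuotientGroup.mk'_surjective (pCore 2 G) x
  have hg : g ∈ Subgroup.closure D := by rw [hD.generates]; trivial
  have hsub : Subgroup.closure D ≤ (Subgroup.centralizer {q n}).comap q :=
    (Subgroup.closure_le _).2 fun d hd => by
      rw [SetLike.mem_coe, Subgroup.mem_comap, Subgroup.mem_centralizer_singleton_iff]
      exact (hcomm d hd).symm.eq
  exact (Subgroup.mem_centralizer_singleton_iff.1 (hsub hg))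

theorem isSolvable_twoZCore [Finite G] : Group.IsSolvable ↥(twoZCore G) := by
  have : Fact (Nat.Prime 2) := ⟨Nat.prime_two⟩
  have hle : pCore 2 G ≤ twoZCore G := fun x hx => by
    show QuotientGroup.mk' (pCore 2 G) x ∈ Subgroup.center _
    rw [show QuotientGroup.mk' (pCore 2 G) x = 1 from (QuotientGroup.eq_one_iff x).2 hx]
    exact one_mem _
  let f : ↥(twoZCore G) →* ↥(Subgroup.center (G ⧸ pCore 2 G)) :=
    ((QuotientGroup.mk' (pCore 2 G)).comp (twoZCore G).subtype).codRestrict _ fun x => x.2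
  have h1 : Group.IsSolvable ↥(pCore 2 G) := by
    have : Group.IsNilpotent ↥(pCore 2 G) := (Core.pCore_isPGroup (p := 2) (G := G)).isNilpotent
    infer_instance
  have h2 : Group.IsSolvable ↥(Subgroup.center (G ⧸ pCore 2 G)) :=
    Group.isSolvable_of_comm fun a b =>
      Subtype.ext (Subgroup.mem_center_iff.1 b.2 a)
  refine Group.isSolvable_of_ker_le_range (Subgroup.inclusion hle) f fun x hx => ?_
  have : (x : G) ∈ pCore 2 G := (QuotientGroup.eq_one_iff _).1 (congrArg Subtype.val hx)
  exact ⟨⟨x, this⟩, rfl⟩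

theorem twoZCore_ne_top [Finite G] (hD : IsRootInvolutionSet D) (hc : IsConnectedSet (OddAdj D) D)
    (hDD : (D ∩ commutingProducts D).Nonempty) : twoZCore G ≠ ⊤ := by
  intro h
  have h1 : Group.IsSolvable ↥(twoZCore G) := isSolvable_twoZCore
  rw [h] at h1
  have : Group.IsSolvable G := Group.isSolvable_of_surjective (f := (Subgroup.topEquiv (G := G)).toMonoidHom)
    (Subgroup.topEquiv (G := G)).surjective
  obtain ⟨d, hd, hd2⟩ := hDD
  have : Nontrivial G := ⟨⟨d, 1, Invol.ne_one (ord hD hd)⟩⟩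
  exact (Group.IsSolvable.commutator_lt_top_of_nontrivial (G := G)).ne
    (commutator_eq_top hD hc ⟨d, hd, hd2⟩)

theorem isSimple_quotient [Finite G] (hD : IsRootInvolutionSet D)
    (hc : IsConnectedSet (OddAdj D) D) (hDD : (D ∩ commutingProducts D).Nonempty) :
    IsSimpleGroup (G ⧸ twoZCore G) := by
  have hne := twoZCore_ne_top hD hc hDD
  have : Nontrivial (G ⧸ twoZCore G) := by
    rw [QuotientGroup.nontrivial_iff]; exact hne
  refine { eq_bot_or_eq_top_of_normal := fun K hK => ?_ }
  let q := QuotientGroup.mk' (twoZCore G)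
  by_cases hT : K.comap q = ⊤
  · refine Or.inr (Subgroup.comap_injective (QuotientGroup.mk'_surjective _) ?_)
    rw [hT, Subgroup.comap_top]
  · refine Or.inl (eq_bot_iff.2 fun x hx => ?_)
    obtain ⟨g, rfl⟩ := QuotientGroup.mk'_surjective (twoZCore G) x
    exact (QuotientGroup.eq_one_iff g).2 (le_twoZCore hD hc hDD hT hx)

theorem solvableRadical_eq [Finite G] (hD : IsRootInvolutionSet D)
    (hc : IsConnectedSet (OddAdj D) D) (hDD : (D ∩ commutingProducts D).Nonempty) :
    solvableRadical G = twoZCore G := by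
  refine le_antisymm (sSup_le ?_) (le_sSup ⟨twoZCore_normal G, isSolvable_twoZCore⟩)
  rintro N ⟨hN, hNs⟩
  refine le_twoZCore hD hc hDD ?_
  intro h
  subst h
  have : Group.IsSolvable G := Group.isSolvable_of_surjective (f := (Subgroup.topEquiv (G := G)).toMonoidHom)
    (Subgroup.topEquiv (G := G)).surjective
  obtain ⟨d, hd, hd2⟩ := hDD
  have : Nontrivial G := ⟨⟨d, 1, Invol.ne_one (ord hD hd)⟩⟩
  exact (Group.IsSolvable.commutator_lt_top_of_nontrivial (G := G)).ne
    (commutator_eq_top hD hc ⟨d, hd, hd2⟩)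

end Cfsg.Agent.RootInv
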